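/-
Helper56 library: tools for kernel-checked scans over the points of a permutation representation
(for the Fischer groups): evaluation order helpers, checks of ranges by binary splitting, words
packed with five bits per letter, membership tests for orbit lists.
-/
import Cfsg.Agent.Helper28.TCL3

set_option autoImplicit false

namespace Cfsg.Agent.Helper56.FiOut

open Cfsg.Agent.Helper28

/-- `f x`, with `x` evaluated first. -/
noncomputable def natLetB (x : ℕ) (f : ℕ → Bool) : Bool :=
  Nat.rec (f 0) (fun k _ => f (Nat.succ k)) x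

theorem natLetB_eq (x : ℕ) (f : ℕ → Bool) : natLetB x f = f x := by
  cases x <;> rfl

/-- `f x`, with `x` evaluated first. -/
noncomputable def natLetN (x : ℕ) (f : ℕ → ℕ) : ℕ :=
  Nat.rec (f 0) (fun k _ => f (Nat.succ k)) x

theorem natLetN_eq (x : ℕ) (f : ℕ → ℕ) : natLetN x f = f x := by
  cases x <;> rfl

/-- Check of a property on the range `[s, s + 2^d)` by binary splitting. -/
noncomputable def rgAll (p : ℕ → Bool) : ℕ → ℕ → Bool
  | 0, s => natLetB s p
  | d + 1, s => natLetB s fun s' => rgAll p d s' && rgAll p d (Nat.add s' (Nat.pow 2 d))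

theorem rgAll_spec (p : ℕ → Bool) (d s : ℕ) (h : rgAll p d s = true) :
    ∀ c, s ≤ c → c < s + 2 ^ d → p c = true := by
  induction d generalizing s with
  | zero =>
    intro c h1 h2
    have hc : c = s := by omega
    subst hc
    have h' : natLetB c p = true := h
    rwa [natLetB_eq] at h'
  | succ d ih =>
    intro c h1 h2
    have h' : natLetB s (fun s' => rgAll p d s' && rgAll p d (Nat.add s' (Nat.pow 2 d))) = true := h
    rw [natLetB_eq, Bool.and_eq_true] at h'
    by_cases hc : c < s + 2 ^ d
    · exact ih s h'.1 c h1 hc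
    · exact ih _ h'.2 c (by show s + 2 ^ d ≤ c; omega)
        (by show c < s + 2 ^ d + 2 ^ d; rw [pow_succ] at h2; omega)

/-- A range checked in blocks of `2 ^ d`. -/
theorem rg_cover (p : ℕ → Bool) (d K : ℕ) (h : ∀ k, k < K → rgAll p d (2 ^ d * k) = true) (i : ℕ)
    (hi : i < 2 ^ d * K) : p i = true := by
  have hk : i / 2 ^ d < K := Nat.div_lt_of_lt_mul hi
  have h1 := Nat.lt_mul_div_succ i (show 0 < 2 ^ d by positivity)
  exact rgAll_spec p d _ (h _ hk) i (Nat.mul_div_le i (2 ^ d))
    (by rw [Nat.mul_succ] at h1; exact h1)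

theorem walkA_append (T : ℕ → ℕ → ℕ) (l1 l2 : List ℕ) (i : ℕ) :
    walkA T (l1 ++ l2) i = walkA T l1 (walkA T l2 i) := by
  induction l1 with
  | nil => rfl
  | cons a l ih => rw [List.cons_append, walkA_cons, walkA_cons, ih]

theorem beq_false_of_ne {q r : ℕ} (h : q ≠ r) : Nat.beq q r = false := by
  cases hb : Nat.beq q r with
  | false => rfl
  | true => exact absurd (Nat.eq_of_beq_eq_true hb) h

theorem blt_true_of_lt {q r : ℕ} (h : q < r) : Nat.blt q r = true := Nat.blt_eq.mpr h

theorem blt_false_of_not_lt {q r : ℕ} (h : ¬ q < r) : Nat.blt q r = false := by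
  cases hb : Nat.blt q r with
  | false => rfl
  | true => exact absurd (Nat.blt_eq.mp hb) h

/-! ### packed words -/

/-- the letters of a packed word: five bits per letter, holding the letter plus one; the
lowest five bits are the last letter -/
def unpackQ : ℕ → ℕ → List ℕ
  | 0, _ => []
  | f + 1, w => if w = 0 then [] else
      unpackQ f (Nat.shiftRight w 5) ++ [Nat.pred (Nat.land w 31)]

theorem unpackQ_lt (f w : ℕ) : ∀ a ∈ unpackQ f w, a < 31 := by
  induction f generalizing w with
  | zero => intro a ha; simp [unpackQ] at ha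
  | succ f ih =>
    intro a ha
    unfold unpackQ at ha
    split_ifs at ha with h0
    · simp at ha
    · rcases List.mem_append.mp ha with h | h
      · exact ih _ a h
      · rw [List.mem_singleton] at h
        have h7 : Nat.land w 31 ≤ 31 := Nat.and_le_right
        rw [h, Nat.pred_eq_sub_one]
        omega

/-- the image of a point under a packed word -/
noncomputable def walkQ (T : ℕ → ℕ → ℕ) (fuel : ℕ) : ℕ → ℕ → ℕ :=
  Nat.rec (motive := fun _ => ℕ → ℕ → ℕ) (fun _ i => i)
    (fun _ ih w i => natLetN w fun w1 => cond (Nat.beq w1 0) i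
      (natLetN (T (Nat.pred (Nat.land w1 31)) i) fun i1 => ih (Nat.shiftRight w1 5) i1)) fuel

theorem walkQ_succ (T : ℕ → ℕ → ℕ) (f w i : ℕ) : walkQ T (f + 1) w i =
    cond (Nat.beq w 0) i (walkQ T f (Nat.shiftRight w 5) (T (Nat.pred (Nat.land w 31)) i)) := by
  show natLetN w (fun w1 => cond (Nat.beq w1 0) i
    (natLetN (T (Nat.pred (Nat.land w1 31)) i) fun i1 => walkQ T f (Nat.shiftRight w1 5) i1)) = _
  rw [natLetN_eq, natLetN_eq]

theorem walkQ_eq (T : ℕ → ℕ → ℕ) (f w i : ℕ) : walkQ T f w i = walkA T (unpackQ f w) i := by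
  induction f generalizing w i with
  | zero => rfl
  | succ f ih =>
    rw [walkQ_succ]
    unfold unpackQ
    by_cases h0 : w = 0
    · subst h0; rfl
    · rw [if_neg h0, beq_false_of_ne h0, cond_false, ih, walkA_append]; rfl

/-! ### orbit lists -/

/-- `z` is not in the orbit list -/
noncomputable def notOrb (ov op : ℕ → ℕ) (m z : ℕ) : Bool :=
  natLetB (op z) fun p => Nat.ble m p || !(Nat.beq (ov p) z)

theorem notOrb_spec (ov op : ℕ → ℕ) (m z : ℕ) (hinv : ∀ t, t < m → op (ov t) = t)
    (h : notOrb ov op m z = true) : ∀ t, t < m → ov t ≠ z := by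
  intro t ht e
  unfold notOrb at h
  rw [natLetB_eq, Bool.or_eq_true] at h
  have hop : op z = t := by rw [← e]; exact hinv t ht
  rcases h with h | h
  · have := Nat.le_of_ble_eq_true h
    omega
  · rw [hop, e, Nat.beq_refl] at h
    exact absurd h (by decide)

/-- the position of `z` in a list -/
noncomputable def posN (l : List ℕ) (z : ℕ) : ℕ :=
  List.rec (motive := fun _ => ℕ) 0 (fun a _ ih => cond (Nat.beq a z) 0 (Nat.succ ih)) l

/-- the image of `y` under the `e`-th power of a function -/
noncomputable def iterF (f : ℕ → ℕ) (e y : ℕ) : ℕ :=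
  Nat.rec (motive := fun _ => ℕ) y (fun _ ih => natLetN ih f) e

theorem iterF_succ (f : ℕ → ℕ) (e y : ℕ) : iterF f (e + 1) y = f (iterF f e y) := by
  show natLetN (iterF f e y) f = _
  rw [natLetN_eq]

/-- the certificate number `y` of a list of blocks of 256 certificates -/
noncomputable def certAt (cs : List (List ℕ)) (y : ℕ) : ℕ :=
  nthN (nthL cs (Nat.shiftRight y 8)) (Nat.land y 255)

theorem and5 {a b c d e : Bool} (h : (a && (b && (c && (d && e)))) = true) :
    a = true ∧ b = true ∧ c = true ∧ d = true ∧ e = true := by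
  simp only [Bool.and_eq_true] at h
  exact h

end Cfsg.Agent.Helper56.FiOut
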