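/-
Helper56 library: an abstract criterion for a finite group to have trivial outer automorphism
group, through a Sylow 17-subgroup `⟨a⟩` that is its own centraliser, an element `t` of its
normaliser acting as the third power (so that the normaliser induces all automorphisms of `⟨a⟩`),
and an element `x` with `x t x⁻¹ = t ^ j` that is determined by this and two relations.
(Adapted from the criterion of helper7 for the group `He`.)
-/
import Mathlib
import Cfsg.Prelude.Def_KGroupFacts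

set_option autoImplicit false

namespace Cfsg.Agent.Helper56.FiOut

open Cfsg

section
variable {Q : Type*} [Group Q]

theorem conj_pow_three {a t : Q} (h : t * a * t⁻¹ = a ^ 3) (i : ℕ) :
    t ^ i * a * (t ^ i)⁻¹ = a ^ (3 ^ i) := by
  induction i with
  | zero => simp
  | succ i ih =>
    calc t ^ (i + 1) * a * (t ^ (i + 1))⁻¹ = t ^ i * (t * a * t⁻¹) * (t ^ i)⁻¹ := by
          rw [pow_succ]; group
      _ = (t ^ i * a * (t ^ i)⁻¹) ^ 3 := by rw [h, conj_pow]
      _ = a ^ (3 ^ (i + 1)) := by rw [ih, ← pow_mul, pow_succ]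

/-- An automorphism fixing `a` is inner. -/
theorem inner_of_fix17 {a t x : Q} (ha : orderOf a = 17) (hta : t * a * t⁻¹ = a ^ 3)
    (hCa : ∀ c, c * a = a * c → c ∈ Subgroup.zpowers a)
    (j : ℕ) (hxt : x * t = t ^ j * x) (n1 n2 : ℕ)
    (hex : ∀ y, y * t = t ^ j * y → (a * y) ^ n1 = 1 → (a ^ 2 * y) ^ n2 = 1 → y = x)
    (hax : (a * x) ^ n1 = 1) (hax2 : (a ^ 2 * x) ^ n2 = 1)
    (hgen : Subgroup.closure ({a, t, x} : Set Q) = ⊤)
    (β : MulAut Q) (hβ : β a = a) : β ∈ Inn Q := by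
  have h1 : (t⁻¹ * β t) * a = a * (t⁻¹ * β t) := by
    have e : β t * a * (β t)⁻¹ = a ^ 3 := by
      have := congrArg β hta
      simp only [map_mul, map_inv, map_pow, hβ] at this
      exact this
    calc t⁻¹ * β t * a = t⁻¹ * (β t * a * (β t)⁻¹) * β t := by group
      _ = t⁻¹ * (t * a * t⁻¹) * β t := by rw [e, hta]
      _ = a * (t⁻¹ * β t) := by group
  obtain ⟨n, hn⟩ := Subgroup.mem_zpowers_iff.mp (hCa _ h1)
  have hβt : β t = t * a ^ n := by rw [hn]; group
  have hconj : ∀ m : ℤ, t * a ^ m * t⁻¹ = a ^ (3 * m) := by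
    intro m
    have e : t * a ^ m * t⁻¹ = (t * a * t⁻¹) ^ m := (conj_zpow).symm
    rw [e, hta, ← zpow_natCast, ← zpow_mul]
    norm_num
  have key : a ^ (7 * n) * t * (a ^ (7 * n))⁻¹ = t * a ^ n := by
    have e1 : t * a ^ (8 * n) * t⁻¹ = a ^ (7 * n) := by
      rw [hconj, zpow_eq_zpow_iff_modEq, ha]
      exact (Int.modEq_iff_dvd).mpr ⟨-n, by push_cast; ring⟩
    have e2 : a ^ (7 * n) * t = t * a ^ (8 * n) := by rw [← e1]; group
    have e3 : a ^ (8 * n) * (a ^ (7 * n))⁻¹ = a ^ n := by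
      rw [← zpow_neg, ← zpow_add]
      congr 1
      ring
    rw [e2, mul_assoc, e3]
  have hγa : MulAut.conj (a ^ (7 * n)) a = a := by
    have hc : Commute (a ^ (7 * n)) a := (Commute.refl a).zpow_left _
    rw [MulAut.conj_apply, hc.eq, mul_inv_cancel_right]
  have hγt : MulAut.conj (a ^ (7 * n)) t = β t := by
    rw [hβt, MulAut.conj_apply]; exact key
  have hβ'a : ((MulAut.conj (a ^ (7 * n)))⁻¹ * β) a = a := by
    show (MulAut.conj (a ^ (7 * n)))⁻¹ (β a) = a
    rw [hβ]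
    have h := MulAut.inv_apply_self Q (MulAut.conj (a ^ (7 * n))) a
    rwa [hγa] at h
  have hβ't : ((MulAut.conj (a ^ (7 * n)))⁻¹ * β) t = t := by
    show (MulAut.conj (a ^ (7 * n)))⁻¹ (β t) = t
    rw [← hγt]
    exact MulAut.inv_apply_self Q _ _
  generalize hβ' : (MulAut.conj (a ^ (7 * n)))⁻¹ * β = β' at hβ'a hβ't
  have h3 : β' x * t = t ^ j * β' x := by
    have := congrArg β' hxt
    simp only [map_mul, map_pow, hβ't] at this
    exact this
  have h4 : (a * β' x) ^ n1 = 1 := by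
    have := congrArg β' hax
    simp only [map_pow, map_mul, map_one, hβ'a] at this
    exact this
  have h4' : (a ^ 2 * β' x) ^ n2 = 1 := by
    have := congrArg β' hax2
    simp only [map_pow, map_mul, map_one, hβ'a] at this
    exact this
  have hβ'x' : β' x = x := hex _ h3 h4 h4'
  have h6 : β' = 1 := by
    have e : (β' : Q →* Q) = MonoidHom.id Q := MonoidHom.eq_of_eqOn_dense hgen (by
      intro y hy
      simp only [Set.mem_insert_iff, Set.mem_singleton_iff] at hy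
      rcases hy with rfl | rfl | rfl
      · exact hβ'a
      · exact hβ't
      · exact hβ'x')
    ext y
    exact DFunLike.congr_fun e y
  have h7 : β = MulAut.conj (a ^ (7 * n)) := by
    rw [← hβ'] at h6
    exact (inv_mul_eq_one.mp h6).symm
  rw [h7]
  exact ⟨a ^ (7 * n), rfl⟩

theorem three_pow_mul_cases : ∀ r : ZMod 17, r ≠ 0 →
    ∃ i : Fin 16, (3 : ZMod 17) ^ (i : ℕ) * r = 1 := by
  decide +kernel

/-- Every automorphism is, up to an inner one, an automorphism fixing `a`. -/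
theorem exists_inner_fix17 [Finite Q] {a t : Q} (hcard : (Nat.card Q).factorization 17 = 1)
    (ha : orderOf a = 17) (hta : t * a * t⁻¹ = a ^ 3) (α : MulAut Q) :
    ∃ g : Q, (MulAut.conj g * α) a = a := by
  have : Fact (Nat.Prime 17) := ⟨by norm_num⟩
  have hP : Nat.card (Subgroup.zpowers a) = 17 := by rw [Nat.card_zpowers, ha]
  have hP' : Nat.card ((Subgroup.zpowers a).map (α : Q →* Q)) = 17 := by
    rw [Subgroup.card_map_of_injective α.injective, hP]
  let S₁ : Sylow 17 Q := Sylow.ofCard (Subgroup.zpowers a) (by rw [hP, hcard, pow_one])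
  let S₂ : Sylow 17 Q := Sylow.ofCard ((Subgroup.zpowers a).map (α : Q →* Q))
    (by rw [hP', hcard, pow_one])
  obtain ⟨g, hg⟩ := MulAction.exists_smul_eq Q S₁ S₂
  have hmem : α a ∈ (S₂ : Subgroup Q) :=
    Subgroup.mem_map_of_mem _ (Subgroup.mem_zpowers a)
  rw [← hg, Sylow.coe_subgroup_smul, Subgroup.mem_pointwise_smul_iff_inv_smul_mem] at hmem
  have hmem' : g⁻¹ * α a * g ∈ Subgroup.zpowers a := by
    have e : (MulAut.conj g)⁻¹ • α a = g⁻¹ * α a * g := by
      rw [← map_inv, MulAut.smul_def, MulAut.conj_apply, inv_inv]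
    rw [← e]; exact hmem
  obtain ⟨n, hn⟩ := Subgroup.mem_zpowers_iff.mp hmem'
  have ha1 : a ≠ 1 := by
    intro h; rw [h, orderOf_one] at ha; norm_num at ha
  have hn0 : ((n : ℤ) : ZMod 17) ≠ 0 := by
    intro h
    have hd : (17 : ℤ) ∣ n := (ZMod.intCast_zmod_eq_zero_iff_dvd n 17).mp h
    have h1 : a ^ n = 1 := by
      have : ((orderOf a : ℕ) : ℤ) ∣ n := by rw [ha]; exact hd
      exact orderOf_dvd_iff_zpow_eq_one.mp this
    rw [h1] at hn
    have h2 : α a = 1 := by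
      have : α a = g * (g⁻¹ * α a * g) * g⁻¹ := by group
      rw [this, ← hn]; group
    exact ha1 (by simpa using h2)
  obtain ⟨i, hi⟩ := three_pow_mul_cases _ hn0
  refine ⟨t ^ (i : ℕ) * g⁻¹, ?_⟩
  have e1 : (MulAut.conj (t ^ (i : ℕ) * g⁻¹) * α) a = a ^ (((3 ^ (i : ℕ) : ℕ) : ℤ) * n) := by
    rw [MulAut.mul_apply, MulAut.conj_apply]
    calc t ^ (i : ℕ) * g⁻¹ * α a * (t ^ (i : ℕ) * g⁻¹)⁻¹
        = t ^ (i : ℕ) * (g⁻¹ * α a * g) * (t ^ (i : ℕ))⁻¹ := by group
      _ = (t ^ (i : ℕ) * a * (t ^ (i : ℕ))⁻¹) ^ n := by rw [← hn, conj_zpow]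
      _ = a ^ (((3 ^ (i : ℕ) : ℕ) : ℤ) * n) := by
          rw [conj_pow_three hta, ← zpow_natCast, ← zpow_mul]
  rw [e1]
  have : a ^ (((3 ^ (i : ℕ) : ℕ) : ℤ) * n) = a ^ (1 : ℤ) := by
    rw [zpow_eq_zpow_iff_modEq, ha]
    apply (ZMod.intCast_eq_intCast_iff _ _ 17).mp
    push_cast
    exact hi
  rw [this, zpow_one]

/-- The criterion. -/
theorem card_out_one17 [Finite Q] {a t x : Q}
    (hcard : (Nat.card Q).factorization 17 = 1)
    (ha : orderOf a = 17) (hta : t * a * t⁻¹ = a ^ 3)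
    (hCa : ∀ c, c * a = a * c → c ∈ Subgroup.zpowers a)
    (j : ℕ) (hxt : x * t = t ^ j * x) (n1 n2 : ℕ)
    (hex : ∀ y, y * t = t ^ j * y → (a * y) ^ n1 = 1 → (a ^ 2 * y) ^ n2 = 1 → y = x)
    (hax : (a * x) ^ n1 = 1) (hax2 : (a ^ 2 * x) ^ n2 = 1)
    (hgen : Subgroup.closure ({a, t, x} : Set Q) = ⊤) : Nat.card (Out Q) = 1 := by
  have fixInn := inner_of_fix17 ha hta hCa j hxt n1 n2 hex hax hax2 hgen
  have all : ∀ α : MulAut Q, α ∈ Inn Q := by
    intro α
    obtain ⟨g, h⟩ := exists_inner_fix17 hcard ha hta α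
    have h1 := fixInn _ h
    have hg : MulAut.conj g ∈ Inn Q := ⟨g, rfl⟩
    have h2 := (Inn Q).mul_mem ((Inn Q).inv_mem hg) h1
    rwa [inv_mul_cancel_left] at h2
  rw [Nat.card_eq_one_iff_unique]
  refine ⟨⟨fun y z => ?_⟩, ⟨1⟩⟩
  obtain ⟨α, rfl⟩ := QuotientGroup.mk_surjective y
  obtain ⟨β, rfl⟩ := QuotientGroup.mk_surjective z
  have e1 : (QuotientGroup.mk α : Out Q) = 1 := (QuotientGroup.eq_one_iff α).mpr (all α)
  have e2 : (QuotientGroup.mk β : Out Q) = 1 := (QuotientGroup.eq_one_iff β).mpr (all β)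
  rw [e1, e2]

end

end Cfsg.Agent.Helper56.FiOut
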